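import Cfsg.Agent.H588.SN.FiTab
import Cfsg.Agent.H588.SN.FiFix_m3
import Cfsg.Agent.H649.PwSp.Corner_m3
import Cfsg.Agent.H461.T5S.Cert
import Cfsg.Agent.CpAutFiFive.Fi22
import Cfsg.Agent.FastGrp
import Cfsg.Agent.Prune
set_option linter.all false
prune_inst 0x7f00000000000000000000000000000000000000000000000000000000000000000000000000000000000000000000000000000000000000000000000000000000000000000000000000000000000000003fffffffffffffffffffffffffffbeffbdffffffff
open scoped Cfsg.Agent.FastGrp

/-!
# `Fi22`: elements of order three (helper588, S3831)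

`g3i_fi22`, `g3_fi22`. An element `x` of order three fixes a transposition or moves one to a commuting one (trace
argument). In the second case it lies, up to conjugation, in an explicit elementary abelian group of order 27; its
elements moving the three commuting transpositions either fix a transposition or have no `PS 2`.
-/

set_option autoImplicit false
set_option linter.constructorNameAsVariable false

namespace Cfsg.Agent.H588.SN.FiT

open Subgroup Cfsg Cfsg.Agent.Fischer Cfsg.Agent.Fischer.Cert Cfsg.Agent.Fischer.Group22 Cfsg.Agent.Fischer.Rank22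
open Cfsg.Agent.Fischer.Abstract
open Cfsg.Agent.R01.Fi22Facts (E trans_com trans_ncom)
open Cfsg.Agent.H459.Rad (PS)
open Cfsg.Agent.H21.SN

/-! ### the commuting graph -/

/-- different and commuting -/
def adj (x y : X) : Prop := x ≠ y ∧ R.Com x y

theorem adj_smul (k : G) (x y : X) : adj (k • x) (k • y) ↔ adj x y := by
  unfold adj
  rw [R.com_smul, (MulAction.injective k).ne_iff]

theorem fx_iff (s : Data22.Gen) (z : X) : fx s (pg s : X) z = true ↔ adj (pg s) z := by
  have h1 : R.Com (pg s) z ↔ Data22.nx s (z : ℕ) = z := by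
    rw [← R.t_smul_eq_iff]
    have h2 : R.t (pg s) = g s := t_pg s
    rw [h2]
    constructor
    · intro h
      rw [← g_smul, h]
    · intro h
      exact Fin.ext ((g_smul s z).trans h)
  unfold fx adj
  rw [band_eq, h1]
  refine and_congr ?_ ⟨Nat.eq_of_beq_eq_true, fun h => by rw [h, Nat.beq_refl]⟩
  constructor
  · intro h h2
    rw [← h2, Nat.beq_refl] at h
    exact Bool.noConfusion h
  · intro h
    cases hb : Nat.beq (z : ℕ) (pg s : X) with
    | false => rfl
    | true => exact absurd (Fin.ext (Nat.eq_of_beq_eq_true hb)).symm h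

theorem card_congr {P Q : X → Prop} [DecidablePred P] [DecidablePred Q] (k : G) (h : ∀ z, P z ↔ Q (k • z)) :
    (Finset.univ.filter P).card = (Finset.univ.filter Q).card := by
  refine Finset.card_bij (fun z _ => k • z) ?_ ?_ ?_
  · intro z hz
    simp only [Finset.mem_filter, Finset.mem_univ, true_and] at hz ⊢
    exact (h z).1 hz
  · intro a _ b _ hab
    exact MulAction.injective k hab
  · intro b hb
    simp only [Finset.mem_filter, Finset.mem_univ, true_and] at hb
    refine ⟨k⁻¹ • b, ?_, smul_inv_smul _ _⟩
    simp only [Finset.mem_filter, Finset.mem_univ, true_and]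
    rw [h, smul_inv_smul]
    exact hb

theorem val_a : ((pg .a : X) : ℕ) = 0 := Nat.eq_of_beq_eq_true pg_val.1
theorem fx_a (z : X) : fx .a 0 z = true ↔ adj (pg .a) z := by rw [← fx_iff, val_a]
section Graph

attribute [local instance] Classical.propDecidable

theorem deg (x : X) : (Finset.univ.filter fun z => adj x z).card = 693 := by
  obtain ⟨k, rfl⟩ := R.trans x
  have h : R.x0 = pg .a := Fin.ext (by rw [val_a]; rfl)
  rw [← card_of_cnt cnt1 (fun z => adj (pg .a) z) (fun z => (fx_a z).symm), h]
  exact (card_congr k fun z => (adj_smul k _ _).symm).symm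

/-! ### triples -/

end Graph

/-! ### the order of the normalizer of the triple -/

/-! ### the group of order 27 -/

/-- the word of the element with the number `n` -/
def wd (n : ℕ) : List Lt := pw (n / 9) [.s .h, .s .i] ++ (pw (n / 3 % 3) ([.v] : List Cfsg.Agent.H588.SN.FiT.Lt) ++ pw (n % 3) [.w])

/-! ### the elements without fixed transposition -/

theorem PS.conj {K : Type*} [Group K] {k : ℕ} {x : K} (h : PS k (MulAut.conj x)) (g : K) :
    PS k (MulAut.conj (g * x * g⁻¹)) := by
  intro f
  have h1 := h fun i => f i * g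
  have h2 : ∀ i, MulAut.conj (f i) * MulAut.conj (g * x * g⁻¹) * (MulAut.conj (f i))⁻¹ =
      MulAut.conj (f i * g) * MulAut.conj x * (MulAut.conj (f i * g))⁻¹ := by
    intro i
    rw [← map_inv, ← map_inv, ← map_mul, ← map_mul, ← map_mul, ← map_mul]
    congr 1
    group
  have h3 : (fun i => MulAut.conj (f i) * MulAut.conj (g * x * g⁻¹) * (MulAut.conj (f i))⁻¹) =
      fun i => MulAut.conj (f i * g) * MulAut.conj x * (MulAut.conj (f i * g))⁻¹ := funext h2
  rw [h3]
  exact h1

/-- the transport of `PS` -/
theorem PS.conj_equiv {K L : Type*} [Group K] [Group L] (e : K ≃* L) {k : ℕ} {x : K} (h : PS k (MulAut.conj x)) :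
    PS k (MulAut.conj (e x)) := by
  have h1 := PS.tr e h
  have h2 : Cfsg.Agent.H459.Rad.tr e (MulAut.conj x) = MulAut.conj (e x) := by
    ext y
    change e (x * e.symm y * x⁻¹) = e x * y * (e x)⁻¹
    rw [map_mul, map_mul, map_inv, e.apply_symm_apply]
  rwa [h2] at h1

end Cfsg.Agent.H588.SN.FiT
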