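import Cfsg.Agent.R01.Fi22Facts
import Cfsg.Agent.Prune
set_option linter.all false
prune_inst 0x7ffffffffffcffffffff7ffffffffffffffffffffffffffbffefffffffffffeffffffbbfffffdfffffffffbefffe7bfffffffffffffffd7ffffffffc7fffffdfffffffbf7fffbfffdfff7fffffffffffffffffffffffffffffffffffffffffffffffffffffff
open scoped Cfsg.Agent.FastGrp

/-!
# `Fi22` on the 3510 transpositions: tables and checks (helper588, S3831). Generated data.

* `el`, `nt` : the generators and two elements `V`, `W` of order three with their tables of images;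
* counts of common neighbours, the transitivity on the common neighbours of `a`, `c`.
-/

set_option autoImplicit false
set_option maxRecDepth 100000

namespace Cfsg.Agent.H588.SN.FiT

open Cfsg Cfsg.Agent.Fischer Cfsg.Agent.Fischer.Cert Cfsg.Agent.Fischer.Data22 Cfsg.Agent.Fischer.Group22

/-- letters -/
inductive Lt | s (x : Gen) | v | v' | w | w'

def wv : List Gen := [.l, .i, .h, .d, .c, .d, .h, .i, .l, .f, .l, .i, .h, .d, .h, .i, .l, .f, .l, .i, .h, .e, .d, .e, .h, .i, .l, .f, .l, .i, .h, .e, .d, .c, .d, .e, .h, .i, .l, .f]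
def ww : List Gen := [.b, .a, .b, .c, .b, .c, .l, .i, .h, .d, .c, .d, .e, .d, .e, .h, .i, .l]

/-- the elements -/
noncomputable def el (t : Lt) : G :=
  Lt.rec (fun s => g s) (wv.map g).prod (wv.map g).prod⁻¹ (ww.map g).prod (ww.map g).prod⁻¹ t

/-! ### relations -/

def pw (n : ℕ) (r : List Lt) : List Lt := (List.replicate n r).flatten

/-! ### counts -/

/-- the number of `k < n` with `p k` -/
noncomputable def cntB (n : ℕ) (p : ℕ → Bool) : ℕ :=
  Nat.rec (nat_lit 0) (fun k r => Nat.add r (Bool.rec (nat_lit 0) (nat_lit 1) (p k))) n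

/-- the number of `k < m * n` with `p k` -/
noncomputable def cntG (m n : ℕ) (p : ℕ → Bool) : ℕ :=
  Nat.rec (nat_lit 0) (fun i r => Nat.add r (cntB n fun j => p (Nat.add (Nat.mul n i) j))) m

theorem cntB_eq (n : ℕ) (p : ℕ → Bool) : cntB n p = ∑ k ∈ Finset.range n, if p k = true then 1 else 0 := by
  induction n with
  | zero => rfl
  | succ n ih =>
    rw [Finset.sum_range_succ, ← ih]
    show Nat.add (cntB n p) (Bool.rec 0 1 (p n)) = _
    cases p n <;> rfl

theorem cntG_eq (m n : ℕ) (p : ℕ → Bool) : cntG m n p = ∑ k ∈ Finset.range (n * m), if p k = true then 1 else 0 := by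
  induction m with
  | zero => rfl
  | succ m ih =>
    rw [Nat.mul_succ, Finset.sum_range_add, ← ih, ← cntB_eq n (fun x => p (n * m + x))]
    rfl

theorem card_of_cnt {p : ℕ → Bool} {k : ℕ} (h : Nat.beq (cntG 54 65 p) k = true) (P : X → Prop) [DecidablePred P]
    (hP : ∀ z : X, P z ↔ p z = true) : (Finset.univ.filter P).card = k := by
  have h1 := cntG_eq 54 65 p
  rw [Nat.eq_of_beq_eq_true h, show 65 * 54 = 3510 from rfl, Finset.sum_range] at h1
  rw [h1, Finset.card_filter]
  exact Finset.sum_congr rfl fun z _ => if_congr (hP z) rfl rfl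

noncomputable def bn (b : Bool) : Bool := Bool.rec true false b

/-- fixed by the generator `s` with the point `q`, different from `q` -/
noncomputable def fx (s : Gen) (q z : ℕ) : Bool := band (bn (Nat.beq z q)) (Nat.beq (nx s z) z)

theorem cnt1 : Nat.beq (cntG 54 65 (fx .a 0)) 693 = true := by decide +kernel
/-! ### the common neighbours of `a` and `c` -/

theorem pg_val : Nat.beq (Cfsg.Agent.Fischer.Rank22.pg .a : X) 0 = true ∧ Nat.beq (Cfsg.Agent.Fischer.Rank22.pg .b : X) 2 = true ∧
    Nat.beq (Cfsg.Agent.Fischer.Rank22.pg .c : X) 2817 = true ∧ Nat.beq (Cfsg.Agent.Fischer.Rank22.pg .e : X) 2827 = true := by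
  decide +kernel

end Cfsg.Agent.H588.SN.FiT
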